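import Cfsg.Agent.H2.PLg

/-! Transvection-free flag-transitive subgroups of `SL(V)`: no elations with a line as centre. -/

set_option autoImplicit false
set_option linter.unusedSectionVars false

namespace Cfsg.Agent.L0.RY

open MulAction Finset Module Cfsg.Agent.H1 Cfsg.Agent.H4 Cfsg.Agent.H2.PL
open scoped Classical Pointwise

variable {F : Type*} [Field F] {V : Type*} [AddCommGroup V] [Module F V] [FiniteDimensional F V]

local notation "𝔾" => SpecialLinearGroup F V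
local notation "n" => finrank F V

/-- `g - 1` -/
def ph (g : 𝔾) : V →ₗ[F] V := slAct g - LinearMap.id

theorem ph_ap (g : 𝔾) (v : V) : ph g v = g • v - v := rfl

theorem mem_ker_ph {g : 𝔾} {v : V} : v ∈ LinearMap.ker (ph g) ↔ g • v = v := by
  rw [LinearMap.mem_ker, ph_ap, sub_eq_zero]

/-- the hypotheses -/
structure Hyp (H : Subgroup 𝔾) : Prop where
  hn : 5 ≤ n
  hD : ∀ (w : V) (f : Dual F V), w ≠ 0 → f ≠ 0 → f w = 0 → tv w f ∉ H
  hfl : ∀ p l p' l' : Submodule F V, finrank F p = 1 → finrank F l = 2 → p ≤ l → finrank F p' = 1 →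
      finrank F l' = 2 → p' ≤ l' → ∃ h ∈ H, h • p = p' ∧ h • l = l'

/-- elements with `(g - 1) V ≤ l` -/
def Y (H : Subgroup 𝔾) (l : Submodule F V) (g : 𝔾) : Prop := g ∈ H ∧ ∀ v, g • v - v ∈ l

/-- `g` fixes `l` pointwise -/
def Fx (g : 𝔾) (l : Submodule F V) : Prop := ∀ v ∈ l, g • v = v

theorem Fx.span2 {g : 𝔾} {a b : V} (ha : g • a = a) (hb : g • b = b) : Fx g (Submodule.span F {a, b}) := fun _ hv =>
  mem_ker_ph.1 (span2_le (mem_ker_ph.2 ha) (mem_ker_ph.2 hb) hv)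

variable {H : Subgroup (SpecialLinearGroup F V)}

theorem Y.conj {l : Submodule F V} {g h : 𝔾} (y : Y H l g) (hh : h ∈ H) : Y H (h • l) (h * g * h⁻¹) :=
  ⟨H.mul_mem (H.mul_mem hh y.1) (H.inv_mem hh), fun v => by
    rw [mem_smul_iff, smul_sub, mul_smul, mul_smul, inv_smul_smul]
    exact y.2 _⟩

theorem Fx.conj {l : Submodule F V} {g : 𝔾} (y : Fx g l) (h : 𝔾) : Fx (h * g * h⁻¹) (h • l) := fun v hv => by
  rw [mul_smul, mul_smul, y _ (mem_smul_iff.1 hv), smul_inv_smul]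

theorem conj_ne {g : 𝔾} (hg : g ≠ 1) (h : 𝔾) : h * g * h⁻¹ ≠ 1 := fun e => hg (by
  have : g = h⁻¹ * (h * g * h⁻¹) * h := by group
  rw [this, e]; group)

theorem Y.kerdim {l : Submodule F V} {g : 𝔾} (y : Y H l g) : n ≤ finrank F (LinearMap.ker (ph g)) + finrank F l := by
  have h1 := LinearMap.finrank_range_add_finrank_ker (ph g)
  have h2 : finrank F (LinearMap.range (ph g)) ≤ finrank F l :=
    Submodule.finrank_mono (by rintro _ ⟨v, rfl⟩; exact y.2 v)
  omega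

variable (P : Hyp H)
include P

theorem Hyp.rk1 {g : 𝔾} (hg : g ∈ H) (w : V) (h : ∀ v, g • v - v ∈ F ∙ w) : g = 1 := by
  by_cases hw : w = 0
  · refine g_ext fun v => ?_
    have := h v
    rw [hw, Submodule.span_zero_singleton, Submodule.mem_bot, sub_eq_zero] at this
    rw [this, one_smul]
  obtain ⟨f, h1, rfl⟩ := exists_tv hw h
  by_cases hf : f = 0
  · rw [hf, tv_zero_right]
  exact absurd hg (P.hD w f hw hf h1)

theorem Hyp.rng {l : Submodule F V} {g : 𝔾} (y : Y H l g) (hl : finrank F l = 2) (hg : g ≠ 1) {w : V} (hw : w ∈ l) :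
    ∃ v, g • v - v = w := by
  have h2 : LinearMap.range (ph g) ≤ l := by rintro _ ⟨v, rfl⟩; exact y.2 v
  by_cases h : finrank F (LinearMap.range (ph g)) ≤ 1
  · exfalso
    obtain ⟨w, hw⟩ := finrank_le_one_iff.1 h
    refine hg (P.rk1 y.1 w.1 fun v => ?_)
    obtain ⟨c, hc⟩ := hw ⟨_, v, rfl⟩
    exact Submodule.mem_span_singleton.2 ⟨c, congrArg Subtype.val hc⟩
  have h3 := Submodule.eq_of_le_of_finrank_le h2 (by omega)
  rw [← h3] at hw
  exact hw

omit P in
theorem exists_pt_le {l : Submodule F V} (hl : finrank F l = 2) : ∃ a ∈ l, a ≠ 0 := exists_ne_mem (by omega)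

theorem Hyp.lines {l m : Submodule F V} (hl : finrank F l = 2) (hm : finrank F m = 2) : ∃ h ∈ H, h • l = m := by
  obtain ⟨a, h1, h2⟩ := exists_pt_le hl
  obtain ⟨b, h3, h4⟩ := exists_pt_le hm
  obtain ⟨h, h5, -, h6⟩ := P.hfl _ l _ m (finrank_span_singleton h2) hl (span1_le h1) (finrank_span_singleton h4) hm
    (span1_le h3)
  exact ⟨h, h5, h6⟩

omit P in
theorem R1 {l m : Submodule F V} {g g' : 𝔾} (y : Y H l g) (z : Fx g l) (y' : Y H m g') (z' : Fx g' m) (e : Fx g m) :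
    ∃ k ∈ H, ∀ v : V, k • v - v = g' • (g • v - v) - (g • v - v) := by
  refine ⟨g' * g * g'⁻¹ * g⁻¹, H.mul_mem (H.mul_mem (H.mul_mem y'.1 y.1) (H.inv_mem y'.1)) (H.inv_mem y.1), fun v => ?_⟩
  have i1 : ∀ v : V, g⁻¹ • v = v - (g • v - v) := fun v => by
    rw [inv_smul_eq_iff, smul_sub, z _ (y.2 v)]; abel
  have i2 : ∀ v : V, g'⁻¹ • v = v - (g' • v - v) := fun v => by
    rw [inv_smul_eq_iff, smul_sub, z' _ (y'.2 v)]; abel
  rw [mul_smul, mul_smul, mul_smul, i2, smul_sub g, e _ (y'.2 _), smul_inv_smul, smul_sub g', z' _ (y'.2 _), i1]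
  simp only [smul_sub]
  abel

omit P in
theorem mem2 {l : Submodule F V} (hl : finrank F l = 2) {a b : V} (ha : a ≠ 0) (hb : b ∉ F ∙ a) (h : a ∈ l) (h' : b ∈ l)
    {x : V} (hx : x ∈ l) : ∃ s t : F, x = s • a + t • b := by
  rw [eq_span2 hl ha hb h h', Submodule.mem_span_pair] at hx
  obtain ⟨s, t, e⟩ := hx
  exact ⟨s, t, e.symm⟩

theorem Hyp.R2 {l m : Submodule F V} {g g' : 𝔾} (y : Y H l g) (z : Fx g l) (hl : finrank F l = 2) (hg : g ≠ 1)
    (y' : Y H m g') (z' : Fx g' m) (e : Fx g m) {a : V} (ha : a ≠ 0) (h1 : a ∈ l) (h2 : a ∈ m) : Fx g' l := by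
  obtain ⟨k, hk, ek⟩ := R1 y z y' z' e
  obtain ⟨b, h3, h4⟩ := exists_mem_not (S := F ∙ a) (T := l) (by rw [finrank_span_singleton ha]; omega)
  have : k = 1 := P.rk1 hk (g' • b - b) fun v => by
    obtain ⟨s, t, e⟩ := mem2 hl ha h4 h1 h3 (y.2 v)
    rw [ek, e, smul_add, g_smul, g_smul, z' _ h2]
    exact Submodule.mem_span_singleton.2 ⟨t, by rw [smul_sub]; abel⟩
  intro w hw
  obtain ⟨v, rfl⟩ := P.rng y hl hg hw
  have := ek v
  rwa [‹k = 1›, one_smul, sub_self, eq_comm, sub_eq_zero] at this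

section

variable (E : ∀ m : Submodule F V, Module.finrank F m = 2 → ∃ g : SpecialLinearGroup F V, g ≠ 1 ∧ Y H m g ∧ Fx g m)
include E

theorem Hyp.R3 {l : Submodule F V} {g g2 : 𝔾} (y : Y H l g) (z : Fx g l) (hl : finrank F l = 2) (hg : g ≠ 1)
    (y2 : Y H l g2) (z2 : Fx g2 l) {c : V} (hc : g • c = c) : g2 • c = c := by
  by_cases h : c ∈ l
  · exact z2 c h
  obtain ⟨a, h1, h2⟩ := exists_pt_le hl
  have hm : finrank F (Submodule.span F {a, c}) = 2 := finrank_pair h2 fun e => h (span1_le h1 e)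
  obtain ⟨g', h3, y', z'⟩ := E _ hm
  have e1 := P.R2 y z hl hg y' z' (Fx.span2 (z a h1) hc) h2 h1 (mem_span2_left _ _)
  exact P.R2 y' z' hm h3 y2 z2 e1 h2 (mem_span2_left _ _) h1 c (mem_span2_right _ _)

theorem Hyp.R4 {l m : Submodule F V} {g g' : 𝔾} (y : Y H l g) (z : Fx g l) (hl : finrank F l = 2) (hg : g ≠ 1)
    (y' : Y H m g') (z' : Fx g' m) (hm : finrank F m = 2) (e : Fx g m) : Fx g' l := by
  obtain ⟨k, hk, ek⟩ := R1 y z y' z' e
  have fx : ∀ v : V, g • v = v → k • v = v := fun v hv => by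
    have := ek v
    rwa [hv, sub_self, smul_zero, sub_self, sub_eq_zero] at this
  by_cases h : k = 1
  · intro w hw
    obtain ⟨v, rfl⟩ := P.rng y hl hg hw
    have := ek v
    rwa [h, one_smul, sub_self, eq_comm, sub_eq_zero] at this
  exact fun c hc => P.R3 E (g := k) ⟨hk, fun v => by rw [ek]; exact y'.2 _⟩ (fun v hv => fx v (e v hv)) hm h y' z'
    (fx c (z c hc))

theorem Hyp.R5 {l : Submodule F V} (hl : finrank F l = 2) : False := by
  obtain ⟨g, hg, y, z⟩ := E l hl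
  obtain ⟨a, h1, ha⟩ := exists_pt_le hl
  obtain ⟨b, hb⟩ := P.rng y hl hg h1
  have nb : g • b ≠ b := fun e => ha (by rw [← hb, e, sub_self])
  have hm : finrank F (Submodule.span F {a, b}) = 2 := finrank_pair ha fun e => nb (z b (span1_le h1 e))
  obtain ⟨g', hg', y', z'⟩ := E _ hm
  have gm : g • Submodule.span F {a, b} = Submodule.span F {a, b} := smul_eq_of_le fun x hx => by
    obtain ⟨s, t, rfl⟩ := Submodule.mem_span_pair.1 hx
    rw [smul_add, g_smul, g_smul, z a h1, sub_eq_iff_eq_add.1 hb]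
    exact Submodule.add_mem _ (Submodule.smul_mem _ _ (mem_span2_left _ _)) (Submodule.smul_mem _ _
      (Submodule.add_mem _ (mem_span2_left _ _) (mem_span2_right _ _)))
  have inv : ∀ x, g' • x = x → g' • g • x = g • x := fun x hx =>
    P.R3 E (gm ▸ y'.conj y.1) (gm ▸ z'.conj g) hm (conj_ne hg' g) y' z' (by rw [mul_smul, mul_smul, inv_smul_smul, hx])
  have : ¬ Fx g' l := fun e => nb (P.R4 E y' z' hm hg' y z hl e b (mem_span2_right _ _))
  simp only [Fx, not_forall] at this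
  obtain ⟨a', h2, h3⟩ := this
  have za : g' • a = a := z' a (mem_span2_left _ _)
  have h4 : a' ∉ F ∙ a := fun e => h3 (z' a' (span1_le (mem_span2_left _ _) e))
  obtain ⟨f, f1, f2⟩ := sep_vec (F ∙ a') a (fun e => h4 (by
    obtain ⟨s, rfl⟩ := Submodule.mem_span_singleton.1 e
    have : s ≠ 0 := by rintro rfl; simp at ha
    exact Submodule.mem_span_singleton.2 ⟨s⁻¹, by rw [smul_smul, inv_mul_cancel₀ this, one_smul]⟩))
  have d1 := finrank_inf_ker (LinearMap.ker (ph g')) (f ∘ₗ ph g)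
  have d2 := y'.kerdim
  have d3 := P.hn
  obtain ⟨c, ⟨c1, c2⟩, c3⟩ := exists_mem_not (S := F ∙ a) (T := LinearMap.ker (ph g') ⊓ LinearMap.ker (f ∘ₗ ph g))
    (by rw [finrank_span_singleton ha]; omega)
  have c4 : g' • c = c := mem_ker_ph.1 c1
  have c5 : g • c = c := by
    obtain ⟨s, t, e⟩ := mem2 hl ha h4 h1 h2 (y.2 c)
    have e1 : g' • (g • c - c) = g • c - c := by rw [smul_sub, inv c c4, c4]
    rw [e, smul_add, g_smul, g_smul, za, add_right_inj] at e1
    have ht : t = 0 := by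
      by_contra ht
      exact h3 (smul_right_injective V ht e1)
    have e2 : f (g • c - c) = 0 := c2
    rw [e, ht, zero_smul, add_zero, map_smul, f1, smul_eq_mul, mul_one] at e2
    rwa [ht, e2, zero_smul, zero_smul, add_zero, sub_eq_zero] at e
  have hs : finrank F (Submodule.span F {a, c}) = 2 := finrank_pair ha c3
  obtain ⟨gs, hgs, ys, zs⟩ := E _ hs
  have s1 := P.R4 E y z hl hg ys zs hs (Fx.span2 (z a h1) c5)
  have s2 := P.R4 E y' z' hm hg' ys zs hs (Fx.span2 za c4)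
  have ha' : a' ≠ 0 := by rintro rfl; simp at h4
  have hl' : finrank F (Submodule.span F {a', b}) = 2 := finrank_pair ha' fun e => nb (z b (span1_le h2 e))
  obtain ⟨gl, hgl, yl, zl⟩ := E _ hl'
  have s3 := P.R4 E ys zs hs hgs yl zl hl' (Fx.span2 (s1 a' h2) (s2 b (mem_span2_right _ _)))
  have s4 : Fx gl l := by
    rw [eq_span2 hl ha h4 h1 h2]
    exact Fx.span2 (s3 a (mem_span2_left _ _)) (zl a' (mem_span2_left _ _))
  exact nb (P.R4 E yl zl hl' hgl y z hl s4 b (mem_span2_right _ _))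

end

theorem Hyp.Y0 {l : Submodule F V} (hl : finrank F l = 2) {g : 𝔾} (y : Y H l g) (z : Fx g l) : g = 1 := by
  by_contra hg
  refine P.R5 (fun m hm => ?_) hl
  obtain ⟨h, h1, rfl⟩ := P.lines hl hm
  exact ⟨_, conj_ne hg h, y.conj h1, z.conj h⟩

end Cfsg.Agent.L0.RY
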