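import Cfsg.Agent.L0.RY.A

/-! Transvection-free flag-transitive subgroups of `SL(V)` have no element `g ≠ 1` with `g - 1` of rank at most two. -/

set_option autoImplicit false
set_option linter.unusedSectionVars false

namespace Cfsg.Agent.L0.RY

open MulAction Finset Module Cfsg.Agent.H1 Cfsg.Agent.H4 Cfsg.Agent.H2.PL
open scoped Classical Pointwise

theorem no_pol {p : ℕ} [hp : Fact p.Prime] {I : Type*} [Fintype I] (r : I → I → Prop) (hs : ∀ a b, r a b → r b a)
    (hi : ∀ a, ¬ r a a) (h2 : ∀ a b, ((#{u | r a u ∧ r b u} : ℕ) : ZMod p) = -1)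
    (h3 : (Fintype.card I : ZMod p) = -1) : False := by
  let M : Matrix I I (ZMod p) := fun a b => if r a b then 1 else 0
  have e : ∀ k, ∀ a b, (M ^ (k + 2)) a b = (-1) ^ (k + 1) := by
    intro k
    induction k with
    | zero =>
      intro a b
      rw [zero_add, pow_two, Matrix.mul_apply, zero_add, pow_one, ← h2 a b, card_filter]
      push_cast
      refine sum_congr rfl fun u _ => ?_
      have : r u b ↔ r b u := ⟨hs _ _, hs _ _⟩
      by_cases h : r a u <;> by_cases h' : r b u <;> simp [M, h, h', this]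
    | succ k ih =>
      intro a b
      rw [show k + 1 + 2 = (k + 2) + 1 by omega, pow_succ', Matrix.mul_apply]
      simp only [ih]
      rw [← sum_mul, pow_succ' _ (k + 1), ← h2 a a, card_filter]
      push_cast
      simp [M]
  have t := ZMod.trace_pow_card M
  obtain ⟨k, hk⟩ : ∃ k, p = k + 2 := ⟨p - 2, by have := hp.out.two_le; omega⟩
  have t1 : M.trace = 0 := sum_eq_zero fun a _ => if_neg (hi a)
  have t2 : (M ^ p).trace = -(-1) ^ (k + 1) := by
    have : ∀ a, (M ^ p) a a = (-1) ^ (k + 1) := fun a => by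
      have := e k a a
      rwa [← hk] at this
    simp only [Matrix.trace, Matrix.diag, this, sum_const, card_univ, nsmul_eq_mul, h3]
    ring
  rw [t1, t2, zero_pow hp.out.ne_zero, neg_eq_zero] at t
  exact pow_ne_zero _ (neg_ne_zero.2 one_ne_zero) t

variable {F : Type*} [Field F] {V : Type*} [AddCommGroup V] [Module F V] [FiniteDimensional F V]

local notation "𝔾" => SpecialLinearGroup F V
local notation "n" => finrank F V

theorem nil_fix {N : Module.End F V} {k : ℕ} (h : N ^ k = 0) {U : Submodule F V} (hU : ∀ x ∈ U, N x ∈ U) {x : V}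
    (hx : x ∈ U) (h0 : x ≠ 0) : ∃ y ∈ U, y ≠ 0 ∧ N y = 0 := by
  have : ∀ j, ∀ x ∈ U, x ≠ 0 → (N ^ j) x = 0 → ∃ y ∈ U, y ≠ 0 ∧ N y = 0 := by
    intro j
    induction j with
    | zero => exact fun x _ h0 e => absurd e h0
    | succ j ih =>
      intro x hx h0 e
      by_cases h1 : N x = 0
      · exact ⟨x, hx, h0, h1⟩
      exact ih _ (hU x hx) h1 (by rwa [pow_succ] at e)
  exact this k x hx h0 (by rw [h]; rfl)

variable {H : Subgroup (SpecialLinearGroup F V)}

theorem Y.maps {l : Submodule F V} {g : 𝔾} (y : Y H l g) {v : V} (hv : v ∈ l) : g • v ∈ l := by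
  simpa using l.add_mem (y.2 v) hv

theorem Y.inv {l : Submodule F V} {g : 𝔾} (y : Y H l g) : Y H l g⁻¹ :=
  ⟨H.inv_mem y.1, fun v => by simpa using l.neg_mem (y.2 (g⁻¹ • v))⟩

theorem Y.mul {l : Submodule F V} {g g' : 𝔾} (y : Y H l g) (y' : Y H l g') : Y H l (g * g') :=
  ⟨H.mul_mem y.1 y'.1, fun v => by simpa [mul_smul] using l.add_mem (y.2 (g' • v)) (y'.2 v)⟩

/-- the commutator space of the stabilizer of a vector -/
def dd (H : Subgroup 𝔾) (v : V) : Submodule F V := Submodule.span F {w | ∃ h ∈ H, h • v = v ∧ ∃ x, w = h • x - x}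

theorem dd_map {h : 𝔾} (hh : h ∈ H) {v w : V} (hw : w ∈ dd H v) : h • w ∈ dd H (h • v) := by
  have : dd H v ≤ (dd H (h • v)).comap (slAct h) := Submodule.span_le.2 (by
    rintro _ ⟨k, h1, h2, x, rfl⟩
    refine Submodule.subset_span ⟨h * k * h⁻¹, H.mul_mem (H.mul_mem hh h1) (H.inv_mem hh), ?_, h • x, ?_⟩
    · rw [mul_smul, mul_smul, inv_smul_smul, h2]
    · rw [mul_smul, mul_smul, inv_smul_smul, act_eq, smul_sub])
  exact this hw

theorem dd_le {v w : V} (h : w ∈ F ∙ v) : dd H v ≤ dd H w := Submodule.span_mono (by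
  rintro _ ⟨k, h1, h2, x, rfl⟩
  obtain ⟨c, rfl⟩ := Submodule.mem_span_singleton.1 h
  exact ⟨k, h1, by rw [g_smul, h2], x, rfl⟩)

theorem span_swap {v w : V} (hw : w ≠ 0) (h : w ∈ F ∙ v) : v ∈ F ∙ w :=
  mem_of_mem_span hw h (Submodule.mem_span_singleton_self w)

theorem not_mem_dd [Finite 𝔾] {p : ℕ} [Fact p.Prime] [CharP F p] (hp : ∀ u ∈ H, u ^ p = 1 → u = 1) {v : V}
    (hv : v ≠ 0) : v ∉ dd H v := by
  let K : Subgroup 𝔾 := H ⊓ stabilizer 𝔾 v
  have : Fintype K := Fintype.ofFinite _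
  have h1 : dd H v ≤ LinearMap.ker (∑ k : K, slAct k.1) := Submodule.span_le.2 (by
    rintro _ ⟨k, h1, h2, x, rfl⟩
    rw [SetLike.mem_coe, LinearMap.mem_ker, map_sub, LinearMap.sum_apply, LinearMap.sum_apply, sub_eq_zero]
    exact Fintype.sum_equiv (Equiv.mulRight (⟨k, h1, h2⟩ : K)) _ _ fun j => by
      simp [act_eq])
  intro h
  have h2 := h1 h
  rw [LinearMap.mem_ker, LinearMap.sum_apply, sum_congr rfl (g := fun _ => v) (fun k _ => k.2.2), sum_const, card_univ,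
    ← Nat.cast_smul_eq_nsmul F, smul_eq_zero, or_iff_left hv, CharP.cast_eq_zero_iff F p] at h2
  obtain ⟨u, hu⟩ := exists_prime_orderOf_dvd_card p h2
  have h3 : u.1 = 1 := hp u.1 u.2.1 (by rw [← Subgroup.coe_pow, ← hu, pow_orderOf_eq_one]; rfl)
  rw [show u = 1 from Subtype.ext h3, orderOf_one] at hu
  exact (Fact.out : p.Prime).one_lt.ne hu

variable (P : Hyp H)
include P

theorem Hyp.key {m : Submodule F V} (hm : finrank F m = 2) {y y' : 𝔾} (hy : y ∈ H) (e : Fx y m) (h' : Y H m y') (v : V) :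
    y' • (y • v - v) = y • v - v := by
  have ym : y • m = m := smul_eq_of_le fun x hx => by rwa [e x hx]
  have h1 : Y H m (y * y' * y⁻¹ * y'⁻¹) := (ym ▸ h'.conj hy).mul h'.inv
  have h2 := P.Y0 hm h1 fun x hx => by
    have e1 : y⁻¹ • y'⁻¹ • x = y'⁻¹ • x := by rw [inv_smul_eq_iff, e _ (h'.inv.maps hx)]
    rw [mul_smul, mul_smul, mul_smul, e1, smul_inv_smul, e x hx]
  have h3 : y' * y = y * y' := by
    have : y * y' = y * y' * y⁻¹ * y'⁻¹ * (y' * y) := by group
    rw [this, h2, one_mul]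
  have h4 := e _ (h'.2 v)
  rw [smul_sub] at h4 ⊢
  rw [← mul_smul, h3, mul_smul, sub_eq_iff_eq_add.1 h4]
  abel

theorem Hyp.ext_line {l : Submodule F V} (hl : finrank F l = 2) {y : 𝔾} (h : Y H l y) {a : V} (ha : a ≠ 0)
    (e : y • a = a) : ∃ m : Submodule F V, finrank F m = 2 ∧ a ∈ m ∧ Fx y m := by
  have d2 := h.kerdim
  have d3 := P.hn
  obtain ⟨c, c1, c2⟩ := exists_mem_not (S := F ∙ a) (T := LinearMap.ker (ph y))
    (by rw [finrank_span_singleton ha]; omega)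
  exact ⟨_, finrank_pair ha c2, mem_span2_left _ _, Fx.span2 e (mem_ker_ph.1 c1)⟩

variable (E : ∀ m : Submodule F V, Module.finrank F m = 2 → ∃ g : SpecialLinearGroup F V, g ≠ 1 ∧ Y H m g)
include E

theorem Hyp.nf {l : Submodule F V} (hl : finrank F l = 2) {y : 𝔾} (h : Y H l y) (hy : y ≠ 1) {a : V} (ha : a ≠ 0)
    (h1 : a ∈ l) (e : y • a = a) : False := by
  obtain ⟨m, hm, am, z⟩ := P.ext_line hl h ha e
  obtain ⟨y', h2, h3⟩ := E m hm
  refine h2 (P.Y0 hm h3 fun w hw => ?_)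
  by_cases w0 : w = 0
  · rw [w0, smul_zero]
  obtain ⟨k, k1, k2, k3⟩ := P.hfl _ m _ m (finrank_span_singleton w0) hm (span1_le hw) (finrank_span_singleton ha) hm
    (span1_le am)
  obtain ⟨v, hv⟩ := P.rng h hl hy h1
  have e1 := P.key hm h.1 z (k3 ▸ h3.conj k1) v
  rw [hv] at e1
  have e2 : k • w ∈ F ∙ a := k2 ▸ smul_mem.2 (Submodule.mem_span_singleton_self w)
  obtain ⟨c, hc⟩ := Submodule.mem_span_singleton.1 e2
  have e3 : (k * y' * k⁻¹) • k • w = k • w := by rw [← hc, g_smul, e1]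
  rwa [mul_smul, mul_smul, inv_smul_smul, smul_left_cancel_iff] at e3

theorem Hyp.same {l : Submodule F V} (hl : finrank F l = 2) {y y2 : 𝔾} (h : Y H l y) (hy : y ≠ 1) (h2 : Y H l y2)
    {c : V} (e : y • c = c) : y2 • c = c := by
  by_cases c0 : c = 0
  · rw [c0, smul_zero]
  obtain ⟨m, hm, cm, z⟩ := P.ext_line hl h c0 e
  obtain ⟨y', h3, h4⟩ := E m hm
  have z' : Fx y' l := fun w hw => by
    obtain ⟨v, rfl⟩ := P.rng h hl hy hw
    exact P.key hm h.1 z h4 v
  obtain ⟨v, rfl⟩ := P.rng h4 hm h3 cm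
  exact P.key hl h4.1 z' h2 v

theorem Hyp.pp {p : ℕ} [Fact p.Prime] [CharP F p] (u : 𝔾) (hu : u ∈ H) (e : u ^ p = 1) : u = 1 := by
  by_contra u1
  have d3 := P.hn
  have : Nontrivial V := Module.nontrivial_of_finrank_pos (R := F) (by omega)
  have : CharP (Module.End F V) p := charP_of_injective_algebraMap (algebraMap F _).injective p
  have hN : (ph u : Module.End F V) ^ p = 0 := by
    have := sub_pow_char_of_commute p (Commute.one_right (slAct u))
    rw [← map_pow, e, map_one, one_pow, sub_self] at this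
    exact this
  obtain ⟨x, hx⟩ : ∃ x : V, ph u x ≠ 0 := by
    by_contra! h
    exact u1 (g_ext fun x => by rw [one_smul]; exact mem_ker_ph.1 (h x))
  obtain ⟨a, ⟨b, hb⟩, ha, ua⟩ := nil_fix hN (U := LinearMap.range (ph u)) (fun x _ => ⟨x, rfl⟩) ⟨x, rfl⟩ hx
  have ua : u • a = a := mem_ker_ph.1 ua
  rw [ph_ap] at hb
  have hl : finrank F (Submodule.span F {a, b}) = 2 := finrank_pair ha fun e => ha (by
    obtain ⟨c, rfl⟩ := Submodule.mem_span_singleton.1 e
    rw [← hb, g_smul, ua, sub_self])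
  have ul : u • Submodule.span F {a, b} = Submodule.span F {a, b} := smul_eq_of_le fun x hx => by
    obtain ⟨s, t, rfl⟩ := Submodule.mem_span_pair.1 hx
    rw [smul_add, g_smul, g_smul, ua, sub_eq_iff_eq_add.1 hb]
    exact Submodule.add_mem _ (Submodule.smul_mem _ _ (mem_span2_left _ _)) (Submodule.smul_mem _ _
      (Submodule.add_mem _ (mem_span2_left _ _) (mem_span2_right _ _)))
  obtain ⟨y, y1, y2⟩ := E _ hl
  have d2 := y2.kerdim
  obtain ⟨x, x1, x2⟩ := exists_ne_mem (T := LinearMap.ker (ph y)) (by omega)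
  obtain ⟨c, c1, c2, c3⟩ := nil_fix hN (U := LinearMap.ker (ph y)) (fun x hx => Submodule.sub_mem _ (mem_ker_ph.2
    (P.same E hl (ul ▸ y2.conj hu) (conj_ne y1 u) y2 (c := u • x)
      (by rw [mul_smul, mul_smul, inv_smul_smul, mem_ker_ph.1 hx]))) hx) x1 x2
  have hl' : finrank F (Submodule.span F {a, c}) = 2 := finrank_pair ha fun e =>
    P.nf E hl y2 y1 c2 (span1_le (mem_span2_left _ _) e) (mem_ker_ph.1 c1)
  obtain ⟨y', y3, y4⟩ := E _ hl'
  have := P.key hl' hu (Fx.span2 ua (mem_ker_ph.1 c3)) y4 b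
  rw [hb] at this
  exact P.nf E hl' y4 y3 ha (mem_span2_left _ _) this

theorem Hyp.pair : ∃ v w : V, v ≠ 0 ∧ w ≠ 0 ∧ w ∈ dd H v ∧ v ∈ dd H w := by
  have d3 := P.hn
  obtain ⟨a, -, ha⟩ := exists_ne_mem (T := (⊤ : Submodule F V)) (by rw [finrank_top]; omega)
  obtain ⟨b, -, hb⟩ := exists_mem_not (S := F ∙ a) (T := ⊤) (by rw [finrank_span_singleton ha, finrank_top]; omega)
  have hl := finrank_pair ha hb
  obtain ⟨y, y1, y2⟩ := E _ hl
  have d2 := y2.kerdim
  obtain ⟨v, v1, v2⟩ := exists_ne_mem (T := LinearMap.ker (ph y)) (by omega)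
  obtain ⟨m, hm, vm, z⟩ := P.ext_line hl y2 v2 (mem_ker_ph.1 v1)
  obtain ⟨y', y3, y4⟩ := E _ hm
  obtain ⟨x, hx⟩ := P.rng y2 hl y1 (mem_span2_left a b)
  obtain ⟨x', hx'⟩ := P.rng y4 hm y3 vm
  refine ⟨v, a, v2, ha, Submodule.subset_span ⟨y, y2.1, z v vm, x, hx.symm⟩,
    Submodule.subset_span ⟨y', y4.1, ?_, x', hx'.symm⟩⟩
  rw [← hx]
  exact P.key hm y2.1 z y4 x

theorem Hyp.final [Fintype F] [Fintype V] [Finite 𝔾] : False := by
  obtain ⟨p, hc, k, hp, hk⟩ := FiniteField.card' F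
  have : Fact p.Prime := ⟨hp⟩
  have nm : ∀ v : V, v ≠ 0 → v ∉ dd H v := fun v hv => not_mem_dd (P.pp E) hv
  obtain ⟨v0, w0, hv0, hw0, h1, h2⟩ := P.pair E
  have h3 : w0 ∉ F ∙ v0 := fun e => nm v0 hv0 (mem_of_mem_span hw0 e h1)
  have tr : ∀ v x : V, v ≠ 0 → x ∉ F ∙ v → ∃ w, w ∈ Submodule.span F {v, x} ∧ w ≠ 0 ∧ w ∈ dd H v ∧ v ∈ dd H w := by
    intro v x hv hx
    obtain ⟨h, hh, e1, e2⟩ := P.hfl _ _ _ _ (finrank_span_singleton hv0) (finrank_pair hv0 h3)
      (span1_le (mem_span2_left _ _)) (finrank_span_singleton hv) (finrank_pair hv hx) (span1_le (mem_span2_left _ _))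
    have e3 : h • v0 ∈ F ∙ v := e1 ▸ smul_mem.2 (Submodule.mem_span_singleton_self _)
    have e4 : v ∈ F ∙ (h • v0) := span_swap ((smul_ne_zero_iff_ne _).2 hv0) e3
    exact ⟨h • w0, e2 ▸ smul_mem.2 (mem_span2_right _ _), (smul_ne_zero_iff_ne _).2 hw0, dd_le e4 (dd_map hh h1),
      span1_le (dd_map hh h2) e4⟩
  have dim : ∀ v : V, v ≠ 0 → n ≤ finrank F (dd H v) + 1 := fun v hv => by
    rw [← finrank_sup_span (nm v hv), ← finrank_top]
    refine Submodule.finrank_mono fun x _ => ?_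
    by_cases hx : x ∈ F ∙ v
    · exact Submodule.mem_sup_right hx
    obtain ⟨w, w1, w2, w3, -⟩ := tr v x hv hx
    obtain ⟨s, t, rfl⟩ := Submodule.mem_span_pair.1 w1
    have ht : t ≠ 0 := by
      rintro rfl
      rw [zero_smul, add_zero] at w2 w3
      exact nm v hv (mem_of_mem_span w2 (Submodule.smul_mem _ _ (Submodule.mem_span_singleton_self _)) w3)
    have : x = t⁻¹ • ((s • v + t • x) - s • v) := by rw [add_sub_cancel_left, smul_smul, inv_mul_cancel₀ ht, one_smul]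
    rw [this]
    exact Submodule.smul_mem _ _ (Submodule.sub_mem _ (Submodule.mem_sup_left w3)
      (Submodule.smul_mem _ _ (Submodule.mem_sup_right (Submodule.mem_span_singleton_self _))))
  have q0 : ∀ j, 0 < j → ((Fintype.card F ^ j : ℕ) : ZMod p) = 0 := fun j hj => by
    rw [hk]
    push_cast
    rw [ZMod.natCast_self, zero_pow k.ne_zero, zero_pow hj.ne']
  have d3 := P.hn
  refine no_pol (p := p) (I := {v : V // v ≠ 0}) (fun a b => b.1 ∈ dd H a.1) (fun a b h => ?_) (fun a => nm a.1 a.2)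
    (fun a b => ?_) ?_
  · have hx : b.1 ∉ F ∙ a.1 := fun e => nm _ a.2 (mem_of_mem_span b.2 e h)
    obtain ⟨w, w1, w2, w3, w4⟩ := tr a.1 b.1 a.2 hx
    obtain ⟨s, t, rfl⟩ := Submodule.mem_span_pair.1 w1
    have hs : s = 0 := by
      by_contra hs
      have : s • a.1 ∈ dd H a.1 := by simpa using Submodule.sub_mem _ w3 (Submodule.smul_mem _ t h)
      exact nm _ a.2 ((Submodule.smul_mem_iff _ hs).1 this)
    rw [hs, zero_smul, zero_add] at w2 w4
    exact dd_le (span_swap w2 (Submodule.smul_mem _ _ (Submodule.mem_span_singleton_self _))) w4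
  · have e1 := card_sub (dd H a.1 ⊓ dd H b.1)
    have e2 := Submodule.finrank_sup_add_finrank_inf_eq (dd H a.1) (dd H b.1)
    have e3 := Submodule.finrank_le (dd H a.1 ⊔ dd H b.1)
    have e4 := dim _ a.2
    have e5 := dim _ b.2
    have e6 := q0 (finrank F ↥(dd H a.1 ⊓ dd H b.1)) (by omega)
    rw [← e1] at e6
    have e7 : #{x | x ∈ dd H a.1 ⊓ dd H b.1} = #{u : {v : V // v ≠ 0} | u.1 ∈ dd H a.1 ∧ u.1 ∈ dd H b.1} + 1 := by
      rw [← card_map (Function.Embedding.subtype _), ← card_insert_of_notMem (a := 0) (by simp)]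
      congr 1
      ext x
      by_cases hx : x = 0 <;> simp [hx]
    rw [e7, Nat.cast_add, Nat.cast_one] at e6
    convert eq_neg_of_add_eq_zero_left e6
  · have e1 := card_ne (F := F) (M := V)
    have e6 := q0 n (by omega)
    rw [← e1, Nat.cast_add, Nat.cast_one] at e6
    rw [Fintype.card_subtype]
    convert eq_neg_of_add_eq_zero_left e6

omit P E in
theorem pieceY [Fintype F] [Fintype V] [Fintype (SpecialLinearGroup F V)] (hn : 5 ≤ n) (H : Subgroup 𝔾)
    (hD : ∀ (w : V) (f : Dual F V), w ≠ 0 → f ≠ 0 → f w = 0 → tv w f ∉ H)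
    (hfl : ∀ p l p' l' : Submodule F V, finrank F p = 1 → finrank F l = 2 → p ≤ l → finrank F p' = 1 →
      finrank F l' = 2 → p' ≤ l' → ∃ h ∈ H, h • p = p' ∧ h • l = l')
    {g : 𝔾} (hg : g ∈ H) {l : Submodule F V} (hl : finrank F l = 2) (h : ∀ v, g • v - v ∈ l) : g = 1 := by
  by_contra g1
  have P : Hyp H := ⟨hn, hD, hfl⟩
  refine P.final fun m hm => ?_
  obtain ⟨k, h1, rfl⟩ := P.lines hl hm
  exact ⟨_, conj_ne g1 k, Y.conj ⟨hg, h⟩ h1⟩

end Cfsg.Agent.L0.RY
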