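import Cfsg.Agent.L0.RY.B
import Cfsg.Agent.H2.PLh

/-! Witt's argument on the fixed points of a Sylow subgroup of a point stabilizer; coprime action on `V`. -/

set_option autoImplicit false
set_option linter.unusedSectionVars false

namespace Cfsg.Agent.L0.RY

open MulAction Finset Module Cfsg.Agent.H1 Cfsg.Agent.H4 Cfsg.Agent.H2.PL
open scoped Classical Pointwise

section grp

variable {G X : Type*} [Group G] [MulAction G X]

theorem witt0 [Finite G] {r : ℕ} [Fact r.Prime] (P : Sylow r G) {y z : X} (hy : ∀ g ∈ P, g • y = y)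
    (hz : ∀ g ∈ P, g • z = z) (h : G) (e : h • y = z) : ∃ k ∈ Subgroup.normalizer (P : Set G), k • y = z := by
  have h1 : (P : Subgroup G) ≤ stabilizer G z := fun g hg => hz g hg
  have h2 : ((h • P : Sylow r G) : Subgroup G) ≤ stabilizer G z := by
    rintro _ ⟨g, hg, rfl⟩
    change (h * g * h⁻¹) • z = z
    rw [← e, mul_smul, mul_smul, inv_smul_smul, hy g hg]
  obtain ⟨k, hk⟩ := exists_smul_eq (stabilizer G z) ((h • P).subtype h2) (P.subtype h1)
  simp_rw [Sylow.smul_subtype, Subgroup.smul_def, smul_smul] at hk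
  exact ⟨k * h, Sylow.smul_eq_iff_mem_normalizer.mp (Sylow.subtype_injective hk), by rw [mul_smul, e]; exact k.2⟩

/-- the data of Witt's lemma -/
structure Wt (x : X) (r : ℕ) (T : Subgroup G) : Prop where
  pg : IsPGroup r T
  le : ∀ g ∈ T, g • x = x
  ne : T ≠ ⊥
  witt : ∀ y z : X, (∀ g ∈ T, g • y = y) → (∀ g ∈ T, g • z = z) → Sm G x y z →
    ∃ k : G, k • x = x ∧ k ∈ Subgroup.normalizer (T : Set G) ∧ k • y = z

theorem exists_wt [Finite G] (x : X) {r : ℕ} [Fact r.Prime] (h : r ∣ Nat.card (stabilizer G x)) :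
    ∃ T : Subgroup G, Wt x r T := by
  obtain ⟨P⟩ : Nonempty (Sylow r (stabilizer G x)) := inferInstance
  refine ⟨P.1.map (stabilizer G x).subtype, P.2.map _, ?_, ?_, ?_⟩
  · rintro _ ⟨g, -, rfl⟩
    exact g.2
  · rw [Ne, Subgroup.map_eq_bot_iff_of_injective _ (Subgroup.subtype_injective _)]
    exact P.ne_bot_of_dvd_card h
  · rintro y z hy hz ⟨h, h1, h2⟩
    obtain ⟨k, k1, k2⟩ := witt0 P (y := y) (z := z) (fun g hg => hy g ⟨g, hg, rfl⟩) (fun g hg => hz g ⟨g, hg, rfl⟩)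
      ⟨h, h1⟩ h2
    refine ⟨k, k.2, fun g => ⟨?_, ?_⟩, k2⟩
    · rintro ⟨g, hg, rfl⟩
      exact ⟨_, (k1 g).1 hg, rfl⟩
    · rintro ⟨g', hg, e⟩
      refine ⟨k⁻¹ * g' * k, (k1 _).2 (by simpa [mul_assoc] using hg), ?_⟩
      have e : (g' : G) = k * g * (k : G)⁻¹ := e
      simp [e, mul_assoc]

theorem fix_norm {T : Subgroup G} {k : G} (hk : k ∈ Subgroup.normalizer (T : Set G)) {y : X} (hy : ∀ g ∈ T, g • y = y) :
    ∀ g ∈ T, g • k • y = k • y := fun g hg => by
  have := hy _ ((Subgroup.mem_set_normalizer_iff''.1 hk g).1 hg)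
  rwa [mul_smul, mul_smul, inv_smul_eq_iff] at this

theorem fix_one [Finite G] [Fintype X] {x : X} (R : RK G x) {r : ℕ} {T : Subgroup G} (W : Wt x r T)
    (hN : ∀ k : G, k • x = x → k ∈ Subgroup.normalizer (T : Set G) → k ^ 2 = 1 → k = 1) {t : G} (t2 : t ^ 2 = 1)
    (t0 : ∀ y : X, t • y ≠ y) (tn : t ∈ Subgroup.normalizer (T : Set G)) {y z : X} (hy : ∀ g ∈ T, g • y = y)
    (hz : ∀ g ∈ T, g • z = z) (y0 : y ≠ x) (z0 : z ≠ x) : Sm G x y z := by
  by_contra hn
  let N : Subgroup G := stabilizer G x ⊓ Subgroup.normalizer (T : Set G)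
  have odd : ¬ 2 ∣ Nat.card N := fun h => by
    obtain ⟨k, hk⟩ := exists_prime_orderOf_dvd_card' 2 h
    have : k.1 = 1 := hN k.1 k.2.1 k.2.2 (by rw [← Subgroup.coe_pow, ← hk, pow_orderOf_eq_one]; rfl)
    rw [show k = 1 from Subtype.ext this, orderOf_one] at hk
    omega
  have orb : ∀ w : X, ((#{u | u ∈ orbit N w} : ℕ) : ZMod 2) = 1 := fun w => by
    have h1 : #{u | u ∈ orbit N w} ∣ Nat.card N := by
      rw [← Nat.card_congr (orbitProdStabilizerEquivGroup N w), Nat.card_prod, Nat.card_eq_fintype_card (α := orbit N w),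
        Fintype.card_subtype]
      convert dvd_mul_right _ _
    exact ZMod.natCast_eq_one_iff_odd.2 (Nat.not_even_iff_odd.1 fun e => odd (e.two_dvd.trans h1))
  have ev : ∑ u ∈ ({u | ∀ g ∈ T, g • u = u} : Finset X), (1 : ZMod 2) = 0 :=
    sum_involution (fun u _ => t • u) (fun _ _ => rfl) (fun u _ _ => t0 u)
      (fun u hu => by simpa using fix_norm tn (by simpa using hu))
      (fun u _ => by rw [smul_smul, ← pow_two, t2, one_smul])
  have sm : ∀ w u : X, u ∈ orbit N w → Sm G x w u := fun w u ⟨k, hk⟩ => ⟨k, k.2.1, hk⟩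
  have e : ({u | ∀ g ∈ T, g • u = u} : Finset X) =
      insert x (({u | u ∈ orbit N y} : Finset X) ∪ ({u | u ∈ orbit N z} : Finset X)) := by
    ext u
    simp only [mem_filter, mem_univ, true_and, mem_insert, mem_union]
    constructor
    · intro hu
      by_cases u0 : u = x
      · exact Or.inl u0
      rcases R.three y0 z0 u0 with h | h | h
      · exact absurd h hn
      · obtain ⟨k, k1, k2, k3⟩ := W.witt y u hy hu h
        exact Or.inr (Or.inl ⟨⟨k, k1, k2⟩, k3⟩)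
      · obtain ⟨k, k1, k2, k3⟩ := W.witt z u hz hu h
        exact Or.inr (Or.inr ⟨⟨k, k1, k2⟩, k3⟩)
    · rintro (rfl | ⟨k, rfl⟩ | ⟨k, rfl⟩)
      exacts [W.le, fix_norm k.2.2 hy, fix_norm k.2.2 hz]
  rw [e, sum_const, card_insert_of_notMem, card_union_of_disjoint, nsmul_eq_mul, mul_one] at ev
  · push_cast at ev
    rw [orb, orb] at ev
    exact absurd ev (by decide)
  · exact disjoint_left.2 fun u h1 h2 => hn ((sm _ _ (by simpa using h1)).trans (sm _ _ (by simpa using h2)).symm)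
  · simp only [mem_union, mem_filter, mem_univ, true_and, not_or]
    exact ⟨fun h => y0 (sm _ _ h).symm.eq_of_self, fun h => z0 (sm _ _ h).symm.eq_of_self⟩

end grp

variable {F : Type*} [Field F] {V : Type*} [AddCommGroup V] [Module F V] [FiniteDimensional F V]

local notation "𝔾" => SpecialLinearGroup F V
local notation "n" => finrank F V

/-- fixed space -/
def CC (T : Subgroup 𝔾) : Submodule F V where
  carrier := {v | ∀ t ∈ T, t • v = v}
  add_mem' ha hb t ht := by rw [smul_add, ha t ht, hb t ht]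
  zero_mem' t _ := smul_zero t
  smul_mem' c v hv t ht := by rw [g_smul, hv t ht]

/-- commutator space -/
def WW (T : Subgroup 𝔾) : Submodule F V := Submodule.span F {w | ∃ t ∈ T, ∃ v, w = t • v - v}

theorem mem_CC {T : Subgroup 𝔾} {v : V} : v ∈ CC T ↔ ∀ t ∈ T, t • v = v := Iff.rfl

theorem mem_WW {T : Subgroup 𝔾} {t : 𝔾} (h : t ∈ T) (v : V) : t • v - v ∈ WW T := Submodule.subset_span ⟨t, h, v, rfl⟩

theorem CC_norm {T : Subgroup 𝔾} {k : 𝔾} (hk : k ∈ Subgroup.normalizer (T : Set 𝔾)) {v : V} (hv : v ∈ CC T) :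
    k • v ∈ CC T := fix_norm hk hv

theorem WW_norm {T : Subgroup 𝔾} {k : 𝔾} (hk : k ∈ Subgroup.normalizer (T : Set 𝔾)) {v : V} (hv : v ∈ WW T) :
    k • v ∈ WW T := by
  have : WW T ≤ (WW T).comap (slAct k) := Submodule.span_le.2 (by
    rintro _ ⟨t, ht, v, rfl⟩
    have := mem_WW ((hk t).1 ht) (k • v)
    rwa [mul_smul, mul_smul, inv_smul_smul, ← smul_sub] at this)
  exact this hv

theorem isCompl_CW [Finite 𝔾] {T : Subgroup 𝔾} (h : (Nat.card T : F) ≠ 0) : IsCompl (CC T) (WW T) := by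
  have : Fintype T := Fintype.ofFinite _
  rw [Nat.card_eq_fintype_card] at h
  let e : V →ₗ[F] V := ∑ k : T, slAct k.1
  have e1 : ∀ v, e v = ∑ k : T, k.1 • v := fun v => LinearMap.sum_apply _ _ _
  have h1 : WW T ≤ LinearMap.ker e := Submodule.span_le.2 (by
    rintro _ ⟨k, h1, x, rfl⟩
    rw [SetLike.mem_coe, LinearMap.mem_ker, map_sub, e1, e1, sub_eq_zero]
    exact Fintype.sum_equiv (Equiv.mulRight (⟨k, h1⟩ : T)) _ _ fun j => by simp [mul_smul])
  refine ⟨Submodule.disjoint_def.2 fun v h2 h3 => ?_, codisjoint_iff.2 (eq_top_iff.2 fun v _ => ?_)⟩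
  · have h4 := h1 h3
    rwa [LinearMap.mem_ker, e1, sum_congr rfl (g := fun _ => v) (fun k _ => h2 k.1 k.2), sum_const, card_univ,
      ← Nat.cast_smul_eq_nsmul F, smul_eq_zero, or_iff_right h] at h4
  · have h2 : e v ∈ CC T := fun t ht => by
      rw [e1, smul_sum]
      exact Fintype.sum_equiv (Equiv.mulLeft (⟨t, ht⟩ : T)) _ _ fun j => by simp [mul_smul]
    have h3 : ∑ k : T, (k.1 • v - v) ∈ WW T := Submodule.sum_mem _ fun k _ => mem_WW k.2 v
    have h4 : v = (Fintype.card T : F)⁻¹ • (e v - ∑ k : T, (k.1 • v - v)) := by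
      rw [sum_sub_distrib, e1, sub_sub_cancel, sum_const, card_univ, ← Nat.cast_smul_eq_nsmul F, smul_smul,
        inv_mul_cancel₀ h, one_smul]
    rw [h4]
    exact Submodule.smul_mem _ _ (Submodule.sub_mem _ (Submodule.mem_sup_left h2) (Submodule.mem_sup_right h3))

variable [Fintype F] [Fintype V] [Fintype (SpecialLinearGroup F V)]

local notation "q" => Fintype.card F

theorem dvd_dim {r : ℕ} [Fact r.Prime] {T : Subgroup 𝔾} (hT : IsPGroup r T) {U : Submodule F V}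
    (h1 : ∀ t ∈ T, ∀ u ∈ U, t • u ∈ U) (h2 : ∀ u ∈ U, u ∈ CC T → u = 0) : orderOf (q : ZMod r) ∣ finrank F U := by
  let S : SubMulAction T V := ⟨U, fun t v hv => h1 t.1 t.2 v hv⟩
  have h3 := hT.card_modEq_card_fixedPoints S
  have h4 : Nat.card S = q ^ finrank F U := by
    rw [← Nat.card_eq_fintype_card, ← Module.natCard_eq_pow_finrank]
    rfl
  have h5 : Nat.card (fixedPoints T S) = 1 := by
    refine Nat.card_eq_one_iff_exists.2 ⟨⟨⟨0, U.zero_mem⟩, fun t => Subtype.ext (smul_zero _)⟩, fun y => ?_⟩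
    exact Subtype.ext (Subtype.ext (h2 _ y.1.2 fun t ht => congrArg Subtype.val (y.2 ⟨t, ht⟩)))
  rw [h4, h5, ← ZMod.natCast_eq_natCast_iff] at h3
  exact orderOf_dvd_of_pow_eq_one (by simpa using h3)

variable {r d : ℕ} [hr : Fact r.Prime] (hd : orderOf (Fintype.card F : ZMod r) = d) (hn : Module.finrank F V < 2 * d)
include hd hn

theorem card_ne0 {T : Subgroup 𝔾} (hT : IsPGroup r T) : (Nat.card T : F) ≠ 0 := by
  obtain ⟨p, hc, k, hp, hk⟩ := FiniteField.card' F
  obtain ⟨j, hj⟩ := IsPGroup.iff_card.1 hT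
  rw [hj, Ne, CharP.cast_eq_zero_iff F p]
  intro h
  obtain rfl := (Nat.prime_dvd_prime_iff_eq hp hr.out).1 (hp.dvd_of_dvd_pow h)
  have := pow_orderOf_eq_one (q : ZMod p)
  rw [hd, hk] at this
  push_cast at this
  rw [ZMod.natCast_self, zero_pow k.ne_zero, zero_pow (by omega)] at this
  exact zero_ne_one this

theorem compl {T : Subgroup 𝔾} (hT : IsPGroup r T) : IsCompl (CC T) (WW T) := isCompl_CW (card_ne0 hd hn hT)

theorem dim_sub {T : Subgroup 𝔾} (hT : IsPGroup r T) {U : Submodule F V} (h1 : ∀ t ∈ T, ∀ u ∈ U, t • u ∈ U)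
    (h2 : U ≤ WW T) (h0 : 0 < finrank F U) : finrank F U = d := by
  have h3 := dvd_dim hT h1 fun u hu hc => Submodule.disjoint_def.1 (compl hd hn hT).disjoint u hc (h2 hu)
  rw [hd] at h3
  obtain ⟨c, hc⟩ := h3
  have h4 := Submodule.finrank_le U
  have : c = 1 := by
    rcases c with _ | _ | c
    · omega
    · rfl
    · nlinarith
  rw [hc, this, mul_one]

theorem dim_WW {T : Subgroup 𝔾} (hT : IsPGroup r T) (h0 : T ≠ ⊥) : finrank F (WW T) = d := by
  refine dim_sub hd hn hT (fun t ht u hu => WW_norm (Subgroup.le_normalizer ht) hu) le_rfl ?_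
  by_contra h
  have h1 : WW T = ⊥ := Submodule.finrank_eq_zero.1 (by omega)
  refine h0 (eq_bot_iff.2 fun t ht => g_ext fun v => ?_)
  have := mem_WW ht v
  rwa [h1, Submodule.mem_bot, sub_eq_zero, ← one_smul 𝔾 v, smul_smul, mul_one] at this

theorem dim_CC {T : Subgroup 𝔾} (hT : IsPGroup r T) (h0 : T ≠ ⊥) : finrank F (CC T) + d = n := by
  rw [← dim_WW hd hn hT h0, Submodule.finrank_add_eq_of_isCompl (compl hd hn hT)]

theorem fix_rho {T : Subgroup 𝔾} (hT : IsPGroup r T) {ρ : 𝔾} (h : ρ ∈ T) (h1 : ρ ≠ 1) {v : V} (hv : ρ • v = v) :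
    v ∈ CC T := by
  have h2 : Subgroup.zpowers ρ ≤ T := (Subgroup.zpowers_le).2 h
  have h3 : Subgroup.zpowers ρ ≠ ⊥ := by rwa [Ne, Subgroup.zpowers_eq_bot]
  have h4 := dim_CC hd hn (hT.to_le h2) h3
  have h5 := dim_CC hd hn hT fun e => h3 (eq_bot_iff.2 (e ▸ h2))
  have h6 : CC T = CC (Subgroup.zpowers ρ) :=
    Submodule.eq_of_le_of_finrank_eq (fun v hv t ht => hv t (h2 ht)) (by omega)
  rw [h6]
  exact fun t ht => (show Subgroup.zpowers ρ ≤ stabilizer 𝔾 v from (Subgroup.zpowers_le).2 hv) ht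

end Cfsg.Agent.L0.RY
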