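import Cfsg.Agent.L0.RY.W1

/-! The Witt–Perin argument for rank three actions of `SL(V)`. -/

set_option autoImplicit false
set_option linter.unusedSectionVars false

namespace Cfsg.Agent.L0.RY

open MulAction Finset Module Cfsg.Agent.H1 Cfsg.Agent.H4 Cfsg.Agent.H2.PL
open scoped Classical Pointwise

variable {F : Type*} [Field F] {V : Type*} [AddCommGroup V] [Module F V] [FiniteDimensional F V]

local notation "𝔾" => SpecialLinearGroup F V
local notation "n" => finrank F V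

section iota

variable {C W : Submodule F V} (h : IsCompl C W)
include h

theorem dec (v : V) : ∃ c ∈ C, ∃ w ∈ W, c + w = v := Submodule.mem_sup.1 (by rw [h.sup_eq_top]; trivial)

theorem ext_of {g g' : 𝔾} (h1 : ∀ c ∈ C, g • c = g' • c) (h2 : ∀ w ∈ W, g • w = g' • w) : g = g' := g_ext fun v => by
  obtain ⟨c, hc, w, hw, rfl⟩ := dec h v
  rw [smul_add, smul_add, h1 c hc, h2 w hw]

theorem exists_ext (σ : SpecialLinearGroup F C) :
    ∃ g : 𝔾, (∀ c : C, g • (c : V) = ↑(σ • c)) ∧ ∀ w ∈ W, g • w = w := by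
  let e : V →ₗ[F] V := LinearMap.id + C.subtype ∘ₗ ph σ ∘ₗ C.projectionOnto W h
  have e1 : ∀ c : C, e c = ↑(σ • c) := fun c => by simp [e, ph_ap]
  obtain ⟨g, hg⟩ := exists_sl e (by
    rw [det_res (l := C) (fun v => by simp [e]) (slAct σ) fun v => (e1 v).symm, det_act])
  exact ⟨g, fun c => by rw [hg, e1], fun w hw => by
    rw [hg]; simp [e, Submodule.projectionOnto_apply_of_mem_right h hw]⟩

/-- extension by the identity -/
noncomputable def iota : SpecialLinearGroup F C →* 𝔾 := MonoidHom.mk' (fun σ => (exists_ext h σ).choose) fun a b =>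
  ext_of h (fun c hc => by
    rw [(exists_ext h _).choose_spec.1 ⟨c, hc⟩, mul_smul, mul_smul, (exists_ext h _).choose_spec.1 ⟨c, hc⟩,
      (exists_ext h _).choose_spec.1]) fun w hw => by
    rw [mul_smul, (exists_ext h _).choose_spec.2 w hw, (exists_ext h _).choose_spec.2 w hw,
      (exists_ext h _).choose_spec.2 w hw]

theorem iota_C (σ : SpecialLinearGroup F C) (c : C) : iota h σ • (c : V) = ↑(σ • c) := (exists_ext h σ).choose_spec.1 c

theorem iota_W (σ : SpecialLinearGroup F C) {w : V} (hw : w ∈ W) : iota h σ • w = w :=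
  (exists_ext h σ).choose_spec.2 w hw

theorem iota_mem (σ : SpecialLinearGroup F C) {c : V} (hc : c ∈ C) : iota h σ • c ∈ C := by
  rw [iota_C h σ ⟨c, hc⟩]; exact Subtype.prop _

theorem iota_inj : Function.Injective (iota h) := fun a b e => g_ext fun c => Subtype.ext (by
  rw [← iota_C h, ← iota_C h, e])

theorem iota_surj {g : 𝔾} (h1 : ∀ c ∈ C, g • c ∈ C) (h2 : ∀ w ∈ W, g • w = w) : ∃ σ, iota h σ = g := by
  obtain ⟨σ, hσ⟩ := exists_sl ((slAct g).restrict h1) (by
    rw [← det_res (e := slAct g) (l := C) (fun v => ?_) _ fun v => rfl, det_act]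
    obtain ⟨c, hc, w, hw, rfl⟩ := dec h v
    rw [act_eq, smul_add, h2 w hw]
    simpa using C.sub_mem (h1 c hc) hc)
  exact ⟨σ, ext_of h (fun c hc => by rw [iota_C h σ ⟨c, hc⟩, hσ]; rfl) fun w hw => by rw [iota_W h σ hw, h2 w hw]⟩

theorem iota_rng {σ : SpecialLinearGroup F C} {l : Submodule F C} (hσ : ∀ c, σ • c - c ∈ l) (v : V) :
    iota h σ • v - v ∈ l.map C.subtype := by
  obtain ⟨c, hc, w, hw, rfl⟩ := dec h v
  refine ⟨_, hσ ⟨c, hc⟩, ?_⟩
  rw [smul_add, iota_W h σ hw, iota_C h σ ⟨c, hc⟩]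
  simp

end iota

theorem exists_two {U : Submodule F V} (hn : 2 ≤ n) (hU : finrank F U ≤ 2) :
    ∃ l : Submodule F V, U ≤ l ∧ finrank F l = 2 := by
  have : ∀ k, finrank F U + k ≤ n → ∃ l : Submodule F V, U ≤ l ∧ finrank F l = finrank F U + k := by
    intro k
    induction k with
    | zero => exact fun _ => ⟨U, le_rfl, rfl⟩
    | succ k ih =>
      intro h
      obtain ⟨l, h1, h2⟩ := ih (by omega)
      obtain ⟨w, -, hw⟩ := exists_mem_not (S := l) (T := ⊤) (by rw [finrank_top]; omega)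
      exact ⟨l ⊔ F ∙ w, h1.trans le_sup_left, by rw [finrank_sup_span hw]; omega⟩
  obtain ⟨l, h1, h2⟩ := this (2 - finrank F U) (by omega)
  exact ⟨l, h1, by omega⟩

theorem exists_comp (hn : n = 2) (t : F) : ∃ g : 𝔾, g ≠ 1 ∧ ∀ v : V, g • g • v - t • g • v + v = 0 := by
  let b := Module.finBasisOfFinrankEq F V hn
  obtain ⟨g, hg⟩ := exists_sl (Matrix.toLin b b !![0, -1; 1, t]) (by simp [LinearMap.det_toLin, Matrix.det_fin_two])
  have e0 : g • b 0 = b 1 := by simp [hg, Matrix.toLin_self]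
  have e1 : g • b 1 = -b 0 + t • b 1 := by simp [hg, Matrix.toLin_self]
  refine ⟨g, fun e => ?_, fun v => ?_⟩
  · rw [e, one_smul] at e0
    exact absurd (b.injective e0) (by decide)
  · rw [← b.sum_repr v, Fin.sum_univ_two]
    simp only [smul_add, g_smul, e0, e1, smul_neg]
    module

variable [Fintype F] [Fintype V] [Fintype (SpecialLinearGroup F V)]
  {X : Type*} [Fintype X] [MulAction (SpecialLinearGroup F V) X] {x : X}

local notation "q" => Fintype.card F

theorem iota_norm {T : Subgroup 𝔾} (h : IsCompl (CC T) (WW T)) (σ : SpecialLinearGroup F (CC T)) :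
    iota h σ ∈ Subgroup.normalizer (T : Set 𝔾) := by
  refine Subgroup.centralizer_le_normalizer _ fun t ht => ext_of h (fun c hc => ?_) fun w hw => ?_
  · rw [mul_smul, mul_smul, iota_mem h σ hc t ht, hc t ht]
  · rw [mul_smul, mul_smul, iota_W h σ hw, iota_W h σ (WW_norm (Subgroup.le_normalizer ht) hw)]

theorem iota_conj {T : Subgroup 𝔾} (h : IsCompl (CC T) (WW T)) (σ : SpecialLinearGroup F (CC T)) {k : 𝔾}
    (hk : k ∈ Subgroup.normalizer (T : Set 𝔾)) : ∃ τ, iota h τ = k * iota h σ * k⁻¹ :=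
  iota_surj h (fun c hc => by
    rw [mul_smul, mul_smul]
    exact CC_norm hk (iota_mem h σ (CC_norm (inv_mem hk) hc))) fun w hw => by
    rw [mul_smul, mul_smul, iota_W h σ (WW_norm (inv_mem hk) hw), smul_inv_smul]

theorem caseA (R : RK 𝔾 x)
    (hY : ∀ g : 𝔾, g • x = x → ∀ l : Submodule F V, finrank F l = 2 → (∀ v, g • v - v ∈ l) → g = 1)
    {r : ℕ} {T : Subgroup 𝔾} (W : Wt x r T) (h : IsCompl (CC T) (WW T)) (h2 : finrank F (CC T) = 2) (hq : 3 ≤ q) :
    False := by
  have hS : ∀ σ, iota h σ • x = x → σ = 1 := fun σ e => iota_inj h (by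
    rw [map_one]
    exact hY _ e _ h2 fun v => by simpa using iota_rng h (σ := σ) (l := ⊤) (fun _ => trivial) v)
  choose s s1 s2 using exists_comp (V := CC T) h2
  have key : ∀ a b, Sm 𝔾 x (iota h (s a) • x) (iota h (s b) • x) → a = b := fun a b e => by
    obtain ⟨k, k1, k2, k3⟩ := W.witt _ _ (fix_norm (iota_norm h _) W.le) (fix_norm (iota_norm h _) W.le) e
    obtain ⟨τ, hτ⟩ := iota_conj h (s a) k2
    have e1 : (s b)⁻¹ * τ = 1 := hS _ (by
      rw [map_mul, map_inv, mul_smul, hτ, mul_smul, mul_smul, inv_smul_eq_iff.2 k1.symm, k3, inv_smul_smul])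
    rw [inv_mul_eq_one] at e1
    obtain ⟨c, hc, c0⟩ := exists_ne_mem (T := CC T) (by omega)
    have e2 := congrArg Subtype.val (s2 a ⟨c, hc⟩)
    have e3 := congrArg Subtype.val (s2 b ⟨k • c, CC_norm k2 hc⟩)
    simp only [Submodule.coe_add, Submodule.coe_sub, Submodule.coe_smul, ← iota_C h, Submodule.coe_zero] at e2 e3
    rw [e1, hτ] at e3
    simp only [mul_smul, inv_smul_smul] at e3
    rw [← g_smul, ← smul_sub, ← smul_add, smul_eq_zero_iff_eq, ← e2, add_left_inj, sub_right_inj] at e3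
    exact (smul_left_injective F ((smul_ne_zero_iff_ne _).2 c0) e3).symm
  obtain ⟨a, b, c, h1, h3, h4⟩ := Fintype.two_lt_card_iff.1 (show 2 < q by omega)
  have ne : ∀ a, iota h (s a) • x ≠ x := fun a e => s1 a (hS _ e)
  rcases R.three (ne a) (ne b) (ne c) with e | e | e
  exacts [h1 (key _ _ e), h3 (key _ _ e), h4 (key _ _ e)]

theorem add_self (hq : q = 2) {M : Type*} [AddCommGroup M] [Module F M] (v : M) : v + v = 0 := by
  have := FiniteField.cast_card_eq_zero F
  rw [hq] at this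
  rw [← two_smul F, show (2 : F) = 0 by exact_mod_cast this, zero_smul]

theorem no_inv {r d : ℕ} [hr : Fact r.Prime] (hd : orderOf (q : ZMod r) = d) (hn : n < 2 * d)
    (hY : ∀ g : 𝔾, g • x = x → finrank F (LinearMap.range (ph g)) ≤ 2 → g = 1) {T : Subgroup 𝔾} (W : Wt x r T)
    (hq : q = 2) (ho : Odd d) (h3 : n ≤ d + 3) (k : 𝔾) (k1 : k • x = x) (k2 : k ∈ Subgroup.normalizer (T : Set 𝔾))
    (k3 : k ^ 2 = 1) : k = 1 := by
  have h := compl hd hn W.pg
  have dW := dim_WW hd hn W.pg W.ne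
  have dC := dim_CC hd hn W.pg W.ne
  have kk : ∀ v : V, k • k • v = v := fun v => by rw [smul_smul, ← pow_two, k3, one_smul]
  have sq : ∀ v : V, k • (k • v - v) = k • v - v := fun v => by
    rw [smul_sub, kk, sub_eq_sub_iff_add_eq_add, add_self hq, add_self hq]
  let U : Submodule F V := WW T ⊓ LinearMap.ker (ph k)
  have dU : d ≤ 2 * finrank F U := by
    have e1 := LinearMap.finrank_range_add_finrank_ker ((ph k).domRestrict (WW T))
    have e2 : finrank F (LinearMap.range ((ph k).domRestrict (WW T))) ≤ finrank F U := Submodule.finrank_mono (by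
      rintro _ ⟨w, rfl⟩
      exact ⟨Submodule.sub_mem _ (WW_norm k2 w.2) w.2, mem_ker_ph.2 (sq w)⟩)
    have e3 : finrank F (LinearMap.ker ((ph k).domRestrict (WW T))) ≤ finrank F U := by
      rw [← Submodule.finrank_map_subtype_eq]
      exact Submodule.finrank_mono (by rintro _ ⟨w, hw, rfl⟩; exact ⟨w.2, hw⟩)
    omega
  by_cases hc : ∀ t ∈ T, k * t = t * k
  · have e1 : finrank F U = d := dim_sub hd hn W.pg (fun t ht u hu => ⟨WW_norm (Subgroup.le_normalizer ht) hu.1,
      mem_ker_ph.2 (by rw [smul_smul, hc t ht, mul_smul, mem_ker_ph.1 hu.2])⟩) inf_le_left (by omega)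
    have e2 : U = WW T := Submodule.eq_of_le_of_finrank_eq inf_le_left (by omega)
    have e3 : ∀ w ∈ WW T, k • w = w := fun w hw => mem_ker_ph.1 (e2 ▸ hw : w ∈ U).2
    have e4 : LinearMap.range (ph k) ≤ CC T := by
      rintro _ ⟨v, rfl⟩
      obtain ⟨c, hc, w, hw, rfl⟩ := dec h v
      rw [ph_ap, smul_add, e3 w hw]
      simpa using (CC T).sub_mem (CC_norm k2 hc) hc
    by_cases e5 : finrank F (LinearMap.range (ph k)) ≤ 2
    · exact hY k k1 e5
    have e6 := Submodule.eq_of_le_of_finrank_le e4 (by omega)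
    refine ext_of h (fun c hc => ?_) fun w hw => by rw [e3 w hw, one_smul]
    rw [← e6] at hc
    obtain ⟨v, rfl⟩ := hc
    rw [one_smul]
    exact sq v
  exfalso
  push Not at hc
  obtain ⟨t, ht, hc⟩ := hc
  have ki : k⁻¹ = k := by rw [inv_eq_iff_mul_eq_one, ← pow_two, k3]
  have r1 : t⁻¹ * (k * t * k⁻¹) ∈ T := T.mul_mem (T.inv_mem ht) ((k2 t).1 ht)
  have r2 : t⁻¹ * (k * t * k⁻¹) ≠ 1 := fun e => hc (by
    rw [inv_mul_eq_one, eq_mul_inv_iff_mul_eq] at e; exact e.symm)
  have r3 : k * (t⁻¹ * (k * t * k⁻¹)) = (t⁻¹ * (k * t * k⁻¹))⁻¹ * k := by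
    simp only [mul_inv_rev, inv_inv, ki, mul_assoc]
  generalize t⁻¹ * (k * t * k⁻¹) = ρ at r1 r2 r3
  have r4 : ρ * ρ ≠ 1 := fun e => by
    obtain ⟨j, hj⟩ := W.pg ⟨ρ, r1⟩
    have e1 : orderOf ρ = 2 := orderOf_eq_prime (by rw [pow_two, e]) r2
    have e2 : orderOf ρ ∣ r ^ j := orderOf_dvd_of_pow_eq_one (congrArg Subtype.val hj)
    rw [e1] at e2
    obtain rfl := (Nat.prime_dvd_prime_iff_eq Nat.prime_two hr.out).1 (Nat.prime_two.dvd_of_dvd_pow e2)
    have e3 := pow_orderOf_eq_one (q : ZMod 2)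
    rw [hd, hq, ZMod.natCast_self, zero_pow (by omega)] at e3
    exact zero_ne_one e3
  have r5 : U ⊓ ρ • U = ⊥ := eq_bot_iff.2 fun u ⟨u1, u2⟩ => by
    have u3 := mem_smul_iff.1 u2
    have e1 : (ρ * ρ) • ρ⁻¹ • u = ρ⁻¹ • u := by
      have e2 := congrArg (· • ρ⁻¹ • u) r3
      simp only [mul_smul, smul_inv_smul, mem_ker_ph.1 u1.2, mem_ker_ph.1 u3.2] at e2
      rw [mul_smul, smul_inv_smul]
      nth_rw 1 [e2]
      rw [smul_inv_smul]
    have e2 := Submodule.disjoint_def.1 h.disjoint _ (fix_rho hd hn W.pg (T.mul_mem r1 r1) r4 e1) u3.1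
    exact (smul_eq_zero_iff_eq _).1 e2
  have r6 : finrank F ↥(U ⊔ ρ • U) ≤ finrank F (WW T) := Submodule.finrank_mono (sup_le inf_le_left fun u hu => by
    simpa using WW_norm (Subgroup.le_normalizer r1) (mem_smul_iff.1 hu).1)
  have r7 := Submodule.finrank_sup_add_finrank_inf_eq U (ρ • U)
  rw [r5, finrank_bot, finrank_smul] at r7
  obtain ⟨j, hj⟩ := ho
  omega

theorem caseB (R : RK 𝔾 x) (hY : ∀ g : 𝔾, g • x = x → finrank F (LinearMap.range (ph g)) ≤ 2 → g = 1)
    {r : ℕ} {T : Subgroup 𝔾} (W : Wt x r T) (h : IsCompl (CC T) (WW T))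
    (h2 : finrank F (CC T) = 2 ∨ finrank F (CC T) = 3) (hq : q = 2)
    (hN : ∀ k : 𝔾, k • x = x → k ∈ Subgroup.normalizer (T : Set 𝔾) → k ^ 2 = 1 → k = 1) : False := by
  have : Finite (SpecialLinearGroup F (CC T)) := Finite.of_injective _ (iota_inj h)
  have : Finite (Dual F (CC T)) := Module.finite_of_finite F
  have : Fintype (SpecialLinearGroup F (CC T)) := Fintype.ofFinite _
  have : Fintype (Dual F (CC T)) := Fintype.ofFinite _
  have : Fintype (Submodule F (CC T)) := Fintype.ofFinite _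
  obtain ⟨c, f, c0, f0, fc⟩ := exists_tvdata (F := F) (V := CC T) (by omega)
  have t1 : iota h (tv c f) ≠ 1 := fun e => tv_ne_one fc c0 f0 (iota_inj h (by rw [e, map_one]))
  have t2 : iota h (tv c f) ^ 2 = 1 := by
    rw [← map_pow, pow_two, ← tv_add_left fc fc, add_self hq, tv_zero_left, map_one]
  have t3 : ∀ (k : 𝔾) (v : V), (k * iota h (tv c f) * k⁻¹) • v - v ∈ F ∙ (k • (c : V)) := fun k v => by
    have := iota_rng h (σ := tv c f) (l := F ∙ c) (fun w => by
      rw [tv_ap fc, add_sub_cancel_left]; exact Submodule.smul_mem _ _ (Submodule.mem_span_singleton_self _)) (k⁻¹ • v)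
    rw [Submodule.map_span, Set.image_singleton] at this
    rw [← smul_span1, mem_smul_iff, smul_sub, mul_smul, mul_smul, inv_smul_smul]
    exact this
  have t0 : ∀ y : X, iota h (tv c f) • y ≠ y := fun y e => by
    obtain ⟨g, rfl⟩ := R.tr y
    refine conj_ne t1 g⁻¹ (hY _ (by rw [inv_inv, mul_smul, mul_smul, e, inv_smul_smul]) ?_)
    refine (Submodule.finrank_mono (t := F ∙ (g⁻¹ • (c : V))) (by rintro _ ⟨v, rfl⟩; exact t3 g⁻¹ v)).trans ?_
    exact (finrank_span_le_card ({g⁻¹ • (c : V)} : Set V)).trans (by simp)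
  obtain ⟨l, -, hl⟩ := exists_two (F := F) (V := CC T) (U := ⊥) (by omega) (by simp)
  have hS : ∀ σ ∈ BB l, iota h σ • x = x → σ = 1 := fun σ hσ e => iota_inj h (by
    rw [map_one]
    refine hY _ e ((Submodule.finrank_mono (t := l.map (CC T).subtype) ?_).trans ?_)
    · rintro _ ⟨v, rfl⟩
      exact iota_rng h hσ v
    · rw [Submodule.finrank_map_subtype_eq, hl])
  have cnt : #{σ | σ ∈ BB l} ≤ #((insert 1 (DD F (CC T))).image fun σ => iota h σ • x) := by
    refine card_le_card_of_injOn (fun σ => iota h σ • x) (fun σ hσ => ?_) fun σ hσ τ hτ e => ?_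
    · by_cases e : iota h σ • x = x
      · exact mem_image.2 ⟨1, mem_insert_self _ _, by rw [map_one, one_smul]; exact e.symm⟩
      have f1 := fix_norm (iota_norm h (tv c f)) W.le
      have f2 := fix_norm (iota_norm h σ) W.le
      obtain ⟨k, k1, k2, k3⟩ := W.witt _ _ f1 f2 (fix_one R W hN t2 t0 (iota_norm h _) f1 f2 (t0 x) e)
      obtain ⟨τ, hτ⟩ := iota_conj h (tv c f) k2
      have w0 : (⟨k • c.1, CC_norm k2 c.2⟩ : CC T) ≠ 0 := fun e =>
        c0 (Subtype.ext ((smul_eq_zero_iff_eq k).1 (congrArg Subtype.val e)))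
      obtain ⟨f', f3, f4⟩ := exists_tv (g := τ) w0 fun v => by
        obtain ⟨a, ha⟩ := Submodule.mem_span_singleton.1 (t3 k v)
        exact Submodule.mem_span_singleton.2 ⟨a, Subtype.ext (by
          rw [Submodule.coe_sub, ← iota_C h, hτ, ← ha]; rfl)⟩
      refine mem_image.2 ⟨τ, mem_insert_of_mem (mem_DD.2 ⟨_, f', w0, fun e => ?_, f3, f4⟩), ?_⟩
      · rw [e, tv_zero_right] at f4
        exact conj_ne t1 k (by rw [← hτ, f4, map_one])
      · rw [hτ, mul_smul, mul_smul, inv_smul_eq_iff.2 k1.symm, k3]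
    · have h1 : σ ∈ BB l := by simpa using hσ
      have h3 : τ ∈ BB l := by simpa using hτ
      have e : iota h σ • x = iota h τ • x := e
      have := hS _ (mul_mem (inv_mem h3) h1) (by rw [map_mul, map_inv, mul_smul, e, inv_smul_smul])
      exact (inv_mul_eq_one.1 this).symm
  have c1 := cnt.trans (card_image_le.trans (card_insert_le _ _))
  have c2 := card_B hl
  have c3 := card_DD (F := F) (V := CC T)
  rw [Nat.card_eq_fintype_card, Fintype.card_subtype] at c2
  have c4 : #{σ | σ ∈ BB l} = q ^ (2 * finrank F (CC T) - 3) * (q ^ 2 - 1) := by convert c2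
  rw [c4] at c1
  rw [hq] at c1 c3
  rcases h2 with e | e <;> rw [e] at c1 c3 <;> simp [br, sum_range_succ] at c1 c3 <;> omega

theorem pieceW (R : RK 𝔾 x)
    (hY : ∀ g : 𝔾, g • x = x → ∀ l : Submodule F V, finrank F l = 2 → (∀ v, g • v - v ∈ l) → g = 1)
    {r d : ℕ} (hr : r.Prime) (hd : orderOf (q : ZMod r) = d) (hn : n < 2 * d)
    (hH : r ∣ Nat.card (stabilizer 𝔾 x))
    (hc : (3 ≤ q ∧ n = d + 2) ∨ (q = 2 ∧ Odd d ∧ (n = d + 2 ∨ n = d + 3))) : False := by
  have : Fact r.Prime := ⟨hr⟩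
  obtain ⟨T, W⟩ := exists_wt x hH
  have h := compl hd hn W.pg
  have dC := dim_CC hd hn W.pg W.ne
  rcases hc with ⟨h1, h2⟩ | ⟨h1, h2, h3⟩
  · exact caseA R hY W h (by omega) h1
  have hY' : ∀ g : 𝔾, g • x = x → finrank F (LinearMap.range (ph g)) ≤ 2 → g = 1 := fun g e1 e2 => by
    obtain ⟨l, l1, l2⟩ := exists_two (by omega) e2
    exact hY g e1 l l2 fun v => l1 ⟨v, rfl⟩
  exact caseB R hY' W h (by omega) h1 (no_inv hd hn hY' W h1 h2 (by omega))

end Cfsg.Agent.L0.RY
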